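import Groth.Prelude.Def_Wider
import Groth.Prelude.Def_DRing2
import Mathlib

set_option autoImplicit false
universe u
open CategoryTheory CategoryTheory.Limits DerivedCategory
attribute [local instance] HasDerivedCategory.standard

namespace Groth.Agent.NearProjLib

variable {R : Type u} [CommRing R]

lemma smul_eq {X : ModuleCat.{u} R} {Z : DerivedCategory (ModuleCat.{u} R)} (a : R)
    (x : (singleFunctor (ModuleCat.{u} R) 0).obj X ⟶ Z) :
    a • x = (singleFunctor (ModuleCat.{u} R) 0).map (a • 𝟙 X) ≫ x := by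
  rw [Functor.map_smul, CategoryTheory.Functor.map_id, Linear.smul_comp, Category.id_comp]

lemma factor_of_cover {M : Type u} [AddCommGroup M] [Module R M] {F : Type u} [AddCommGroup F]
    [Module R F] [hF : Module.Projective R F] (a : R) (q : F →ₗ[R] M) (hq : Function.Surjective q)
    (h : ∀ (N : Type u) [AddCommGroup N] [Module R N],
      ∀ x : DRing.ExtD R (Dual.inD R M) (Dual.inD R N) 1, a • x = 0) :
    ∃ (P : Type u) (_ : AddCommGroup P) (_ : Module R P) (_ : Module.Projective R P)
      (f : M →ₗ[R] P) (g : P →ₗ[R] M), g ∘ₗ f = a • LinearMap.id := by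
  let S := ModuleCat.shortComplexOfCompEqZero (LinearMap.ker q).subtype q
    (LinearMap.comp_ker_subtype q)
  have hS : S.ShortExact :=
    { exact := ModuleCat.shortComplex_exact _ (LinearMap.exact_subtype_ker_map q)
      mono_f := (ModuleCat.mono_iff_injective _).2 Subtype.val_injective
      epi_g := (ModuleCat.epi_iff_surjective _).2 hq }
  have h0 := h (LinearMap.ker q) hS.extClass.hom
  rw [smul_eq] at h0
  have h1 : (Abelian.Ext.mk₀ (a • 𝟙 (ModuleCat.of R M))).comp hS.extClass (zero_add 1) = 0 := by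
    apply Abelian.Ext.homAddEquiv.injective
    rw [map_zero, Abelian.Ext.homAddEquiv_apply, Abelian.Ext.comp_hom, Abelian.Ext.mk₀_hom,
      ShiftedHom.mk₀_comp]
    exact h0
  obtain ⟨y, hy⟩ := Abelian.Ext.covariant_sequence_exact₃ (ModuleCat.of R M) hS
    (Abelian.Ext.mk₀ (a • 𝟙 (ModuleCat.of R M))) (zero_add 1) h1
  obtain ⟨y, rfl⟩ := (Abelian.Ext.mk₀_bijective _ _).2 y
  rw [Abelian.Ext.mk₀_comp_mk₀] at hy
  exact ⟨F, inferInstance, inferInstance, hF, y.hom, q,
    congrArg ModuleCat.Hom.hom ((Abelian.Ext.mk₀_bijective _ _).1 hy)⟩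

theorem nearProjective_iff (I : Ideal R) (M : Type u) [AddCommGroup M] [Module R M] :
    (∀ a ∈ I, ∃ (P : Type u) (_ : AddCommGroup P) (_ : Module R P) (_ : Module.Projective R P)
        (f : M →ₗ[R] P) (g : P →ₗ[R] M), g ∘ₗ f = a • LinearMap.id) ↔
      ∀ (N : Type u) [AddCommGroup N] [Module R N], ∀ a ∈ I,
        ∀ x : DRing.ExtD R (Dual.inD R M) (Dual.inD R N) 1, a • x = 0 := by
  constructor
  · intro h N _ _ a ha x
    obtain ⟨P, iP, iP', hP, f, g, hfg⟩ := h a ha
    haveI : Projective (ModuleCat.of R P) := (IsProjective.iff_projective P).1 hP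
    have hz : ∀ y : DRing.ExtD R (Dual.inD R P) (Dual.inD R N) 1, y = 0 := by
      intro y
      obtain ⟨e, he⟩ := (Abelian.Ext.homAddEquiv (X := ModuleCat.of R P) (Y := ModuleCat.of R N)
        (n := 1)).surjective y
      rw [← he, e.eq_zero_of_hasProjectiveDimensionLT 1 le_rfl, map_zero]
    have hfac : a • 𝟙 (ModuleCat.of R M) = ModuleCat.ofHom f ≫ ModuleCat.ofHom g :=
      ModuleCat.hom_ext hfg.symm
    rw [smul_eq a x, hfac, Functor.map_comp, Category.assoc,
      hz ((singleFunctor (ModuleCat.{u} R) 0).map (ModuleCat.ofHom g) ≫ x), comp_zero]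
  · intro h a ha
    exact factor_of_cover a (Finsupp.linearCombination R (id : M → M))
      (fun m => ⟨Finsupp.single m 1, by simp⟩) (fun N _ _ x => h N a ha x)

end Groth.Agent.NearProjLib
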